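import Groth.Agent.Vancyc.H878.OmegaRank
import Groth.Agent.UnramA.SmoothFibreDim
import Groth.Agent.Picfga.CurveRelDim
import Groth.Agent.Krr.H502.KosZero

/-!
# High exterior powers of the differentials vanish
-/

set_option autoImplicit false
universe u

open CategoryTheory CategoryTheory.Limits AlgebraicGeometry TopologicalSpace Opposite

namespace K989.DimVan

open Groth.Agent.Sga67.Sec Groth.Agent.Sga67.LocBasis Groth.Agent.CurvesB.OmegaDer
open Groth.Agent.VarietyB Groth.Agent.Vancyc.H878.OmegaRank Groth.Agent.Sga67.ExtSheaf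

variable {k : Type u} [Field k] {X : Scheme.{u}}

theorem topologicalKrullDim_chart (f : X ⟶ Spec (CommRingCat.of k)) (d : ℕ) {U : (Spec (CommRingCat.of k)).Opens}
    {V : X.Opens} (hV : IsAffineOpen V) {z : X} (hx : z ∈ V) (e : V ≤ f ⁻¹ᵁ U)
    (hf : (f.appLE U V e).hom.IsStandardSmoothOfRelativeDimension d) :
    topologicalKrullDim (V : Set X) = d := by
  rw [Groth.Agent.UnramA.SmoothFibreDim.topologicalKrullDim_affineOpen hV]
  have hUtop : U = ⊤ := by
    have hU' : f z ∈ U := e hx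
    ext y
    simp only [Opens.coe_top, Set.mem_univ, iff_true]
    have : Subsingleton ↥(Spec (.of k)) := inferInstanceAs (Subsingleton (PrimeSpectrum k))
    rwa [Subsingleton.elim y (f z)]
  subst hUtop
  let e1 : k ≃+* Γ(Spec (.of k), ⊤) := (Scheme.ΓSpecIso (.of k)).symm.commRingCatIsoToRingEquiv
  have hfield : IsField Γ(Spec (.of k), ⊤) := e1.symm.isField (Field.toIsField k)
  let := hfield.toField
  algebraize [(f.appLE ⊤ V e).hom]
  have : Algebra.IsStandardSmoothOfRelativeDimension d Γ(Spec (.of k), ⊤) Γ(X, V) := hf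
  have : Nonempty V := ⟨⟨z, hx⟩⟩
  have : Nontrivial Γ(X, V) := inferInstance
  exact Groth.Agent.Ega4B.DimFT.ringKrullDim_eq_of_forall_isMaximal d fun m _ ↦
    Groth.Agent.UnramA.SmoothDim.height_eq_of_isStandardSmooth Γ(Spec (.of k), ⊤) Γ(X, V) d m

/-- Near each point, `Ω` has a basis with at most `dim X` elements. -/
theorem exists_basis (f : X ⟶ Spec (CommRingCat.of k)) [Smooth f] [QuasiCompact (pullback.diagonal f)]
    (n : ℕ) (hn : topologicalKrullDim X = n) (x : X) :
    ∃ (d : ℕ) (W : X.Opens) (s : Fin d → Sec (Omega.sheaf f) W), d ≤ n ∧ x ∈ W ∧ IsLocBasis s := by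
  obtain ⟨U, hU, W, hW, hx, e, h⟩ := Smooth.exists_isStandardSmooth f x
  obtain ⟨d, hd⟩ := Groth.Agent.Picfga.CurveRelDim.exists_relativeDimension h
  let := algX f e
  let := modO f e
  have := isScalarTower f e
  have h1 : Algebra.IsStandardSmoothOfRelativeDimension d Γ(Spec (CommRingCat.of k), U) Γ(X, W) := hd
  have h2 : Algebra.IsStandardSmooth Γ(Spec (CommRingCat.of k), U) Γ(X, W) :=
    Algebra.IsStandardSmoothOfRelativeDimension.isStandardSmooth d
  have h3 : Nontrivial Γ(X, W) := by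
    have : Nonempty W := ⟨⟨x, hx⟩⟩
    infer_instance
  have h4 : Module.finrank Γ(X, W) Ω[Γ(X, W)⁄Γ(Spec (CommRingCat.of k), U)] = d :=
    Module.finrank_eq_of_rank_eq (Algebra.IsStandardSmoothOfRelativeDimension.rank_kaehlerDifferential d)
  let b := (Module.finBasisOfFinrankEq Γ(X, W) Ω[Γ(X, W)⁄Γ(Spec (CommRingCat.of k), U)] h4).map
    (LinearEquiv.ofBijective _ (bijective_lift f e hU hW))
  refine ⟨d, W, _, ?_, hx, isLocBasis_of_isQCoh (isQCoh_omega f) hW b⟩
  have h5 : topologicalKrullDim (W : Set X) = d := topologicalKrullDim_chart f d hW hx e hd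
  have h6 : topologicalKrullDim (W : Set X) ≤ topologicalKrullDim X :=
    Topology.IsInducing.topologicalKrullDim_le Topology.IsInducing.subtypeVal
  rw [h5, hn] at h6
  exact_mod_cast h6

/-- High exterior powers of the differentials vanish. -/
theorem isZero_extPow_omega (f : X ⟶ Spec (CommRingCat.of k)) [Smooth f] [QuasiCompact (pullback.diagonal f)]
    (n : ℕ) (hn : topologicalKrullDim X = n) {a : ℕ} {L : X.Modules} (hL : ExtPow.IsExtPow a (Omega.sheaf f) L)
    (ha : n < a) : IsZero L := by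
  obtain ⟨φ, hφ⟩ := exists_phi hL
  rw [IsZero.iff_id_eq_zero]
  apply hom_ext_of_locally
  intro x U hx
  obtain ⟨d, V, b, hd, hxV, hb⟩ := exists_basis f n hn x
  obtain ⟨_, ⟨W, rfl⟩, hxW, hW⟩ := Opens.isBasis_iff_nbhd.mp (affineBasis X) (show x ∈ U ⊓ V from ⟨hx, hxV⟩)
  refine ⟨W.1, hW.trans inf_le_left, hxW, fun s => ?_⟩
  have h1 := isLocBasis_extPow φ hφ (U := W) (hb.restrict (hW.trans inf_le_right)) W.1 le_rfl
  obtain ⟨c, rfl⟩ := h1.2 s
  have : IsEmpty (Set.powersetCard (Fin d) a) := by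
    refine ⟨fun J => ?_⟩
    have h2 : J.1.card = a := J.2
    have h3 := Finset.card_le_univ J.1
    rw [Fintype.card_fin] at h3
    omega
  rw [appS_id, appS_zero, comb_apply]
  exact Finset.sum_of_isEmpty _

end K989.DimVan
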