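import Groth.Agent.HdgLef.K989.Ineq

/-!
# High exterior powers of the differentials vanish on a divisor
-/

set_option autoImplicit false
universe u

open CategoryTheory CategoryTheory.Limits AlgebraicGeometry
open K882.Coho K882.IsoMon K882.Divisor

namespace K989.Lef

theorem isZero_c {X : Scheme.{u}} {M N : X.Modules} (h : c M = c N) (hM : IsZero M) : IsZero N := by
  obtain ⟨e⟩ := c_eq_iff.mp h
  exact hM.of_iso e.symm

variable {k : Type u} [Field k] {X : Scheme.{u}} (p : X ⟶ Spec (CommRingCat.of k))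
  [Smooth p] [IsSeparated p] (D : X.IdealSheafData)
  [Smooth (D.subschemeι ≫ p)]

theorem isZero_div {n : ℕ} (M : X.Modules) (hM : PicF.IsInvertible M) (hI : PicF.IsInvertible (ClSub.idealMod D))
    (hMI : c M * c (ClSub.idealMod D) = 1)
    (AX : ℕ → X.Modules) (hAX : ∀ a, ExtPow.IsExtPow a (Omega.sheaf p) (AX a))
    (AY : ℕ → D.subscheme.Modules) (hAY : ∀ a, ExtPow.IsExtPow a (Omega.sheaf (D.subschemeι ≫ p)) (AY a))
    (hX0 : ∀ a, n < a → IsZero (AX a)) (a : ℕ) (ha : n ≤ a) : IsZero (AY a) := by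
  have hΩX : FlatMod.IsFinLocFree (Omega.sheaf p) := Groth.Agent.Vancyc.H878.OmegaRank.isFinLocFree_omega _
  obtain ⟨T, hT, t1, t2, t3⟩ := exists_seq p D hI hΩX AX hAX AY hAY a
  have z2 : IsZero T.X₂ := isZero_c t2.symm
    ((Scheme.Modules.pullback D.subschemeι).map_isZero (hX0 (a + 1) (by omega)))
  have hmono := hT.mono_f
  have z1 : IsZero T.X₁ := IsZero.of_mono T.f z2
  have hMI' : c ((Scheme.Modules.pullback D.subschemeι).obj M) *
      c ((Scheme.Modules.pullback D.subschemeι).obj (ClSub.idealMod D)) = 1 := by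
    rw [← c_pull_tensor _ (flf_of_inv hM), c_pull_iso D.subschemeι
      (M := CohB1.tensorMod M (ClSub.idealMod D)) (N := Coh.structureModule X) (by rw [c_tensor, hMI]; rfl), c_pull_unit]
  refine isZero_c (M := CohB1.tensorMod T.X₁ ((Scheme.Modules.pullback D.subschemeι).obj M)) ?_
    (K882.ExtLine.isZero_tensorMod z1)
  rw [c_tensor, t1, mul_comm, ← mul_assoc, hMI', one_mul]

end K989.Lef
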