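import Groth.Agent.Sga2.ESZ
import Groth.Agent.S0051
import Groth.Agent.Sga2lef.H503.RegNil
import Groth.Agent.Divis.SurfConn
import Groth.Agent.VarietyA.RegSmoothSch
import Groth.Agent.PerfA.CohSerre

/-!
# Vanishing for negative and positive twists, uniform in finitely many sheaves
-/

set_option autoImplicit false
universe u

open CategoryTheory CategoryTheory.Limits AlgebraicGeometry

namespace K989.EszVan

/-- Enriques–Severi–Zariski for a finite family of locally free sheaves on a smooth proper irreducible scheme. -/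
theorem exists_esz (k : Type u) [Field k] (X : Scheme.{u}) [X.Over (Spec (CommRingCat.of k))]
    [IsProper (X ↘ Spec (CommRingCat.of k))] [Smooth (X ↘ Spec (CommRingCat.of k))] [IrreducibleSpace X]
    (n : ℕ) (hn : topologicalKrullDim X = n) {L P : X.Modules} (hLP : ClSub.IsInverseOf L P) (hL : CohB1.IsAmple L)
    (A : ℕ → X.Modules) (hA : ∀ a, FlatMod.IsFinLocFree (A a)) (N : ℕ) :
    ∃ m₀, ∀ m, m₀ ≤ m → ∀ a ≤ N, ∀ i < n,
      Subsingleton (Coh.HH X (CohB1.tensorMod (A a) (CohB1.tensorPow P m)) i) := by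
  have hlN : IsLocallyNoetherian X := LocallyOfFiniteType.isLocallyNoetherian (X ↘ Spec (CommRingCat.of k))
  have key : ∀ a, ∃ m₀, ∀ m, m₀ ≤ m → ∀ i < n,
      Subsingleton (Coh.HH X (CohB1.tensorMod (A a) (CohB1.tensorPow P m)) i) := by
    intro a
    rcases n with _ | n
    · exact ⟨0, fun m _ i hi => absurd hi (by omega)⟩
    · have hcoh : Coh.IsCoh (A a) := Groth.Agent.PerfA.CohSerre.isCoh_of_isFinLocFree (hA a)
      obtain ⟨m₀, h⟩ := Groth.Agent.Sga2.ESZ.esz k X hLP hL (A a) hcoh n (by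
        intro x hx
        have hr : IsRegularLocalRing (X.presheaf.stalk x) :=
          Groth.Agent.VarietyA.RegSmoothSch.isRegularLocalRing_stalk_of_mem_smoothLocus
            (X ↘ Spec (CommRingCat.of k)) x (by rw [Scheme.Hom.smoothLocus_eq_top]; trivial)
        have hd : ringKrullDim (X.presheaf.stalk x) = ((n + 1 : ℕ) : WithBot ℕ∞) := by
          rw [Groth.Agent.Divis.SurfConn.ringKrullDim_stalk_eq k X (X ↘ Spec (CommRingCat.of k)) x hx, hn]
        have h1 := Groth.Agent.Sga2lef.H503.RegNil.le_depth_flf hcoh (hA a) x hd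
        refine lt_of_lt_of_le ?_ h1
        exact_mod_cast Nat.lt_succ_self n)
      exact ⟨m₀, fun m hm i hi => h m hm i (by omega)⟩
  induction N with
  | zero =>
    obtain ⟨m₀, h⟩ := key 0
    refine ⟨m₀, fun m hm a ha i hi => ?_⟩
    obtain rfl : a = 0 := by omega
    exact h m hm i hi
  | succ N ih =>
    obtain ⟨m₁, h₁⟩ := ih
    obtain ⟨m₀, h⟩ := key (N + 1)
    refine ⟨max m₁ m₀, fun m hm a ha i hi => ?_⟩
    rcases Nat.lt_or_ge N a with h' | h'
    · obtain rfl : a = N + 1 := by omega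
      exact h m (by omega) i hi
    · exact h₁ m (by omega) a h' i hi

/-- Serre vanishing for a finite family of locally free sheaves. -/
theorem exists_serre (k : Type u) [Field k] (X : Scheme.{u}) (f : X ⟶ Spec (CommRingCat.of k))
    [IsProper f] {L : X.Modules} (hL : CohB1.IsAmple L)
    (A : ℕ → X.Modules) (hA : ∀ a, FlatMod.IsFinLocFree (A a)) (N : ℕ) :
    ∃ m₀, ∀ m, m₀ ≤ m → ∀ a ≤ N, ∀ i, 1 ≤ i →
      Subsingleton (Coh.HH X (CohB1.tensorMod (A a) (CohB1.tensorPow L m)) i) := by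
  have hlN : IsLocallyNoetherian X := LocallyOfFiniteType.isLocallyNoetherian f
  have key : ∀ a, ∃ m₀, ∀ m, m₀ ≤ m → ∀ i, 1 ≤ i →
      Subsingleton (Coh.HH X (CohB1.tensorMod (A a) (CohB1.tensorPow L m)) i) := by
    intro a
    obtain ⟨m₀, h⟩ := (Groth.Agent.S0051.result k X f L hL.1).mp hL (A a)
      (Groth.Agent.PerfA.CohSerre.isCoh_of_isFinLocFree (hA a))
    exact ⟨m₀, fun m hm i hi => h m hm i hi⟩
  induction N with
  | zero =>
    obtain ⟨m₀, h⟩ := key 0
    refine ⟨m₀, fun m hm a ha i hi => ?_⟩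
    obtain rfl : a = 0 := by omega
    exact h m hm i hi
  | succ N ih =>
    obtain ⟨m₁, h₁⟩ := ih
    obtain ⟨m₀, h⟩ := key (N + 1)
    refine ⟨max m₁ m₀, fun m hm a ha i hi => ?_⟩
    rcases Nat.lt_or_ge N a with h' | h'
    · obtain rfl : a = N + 1 := by omega
      exact h m (by omega) i hi
    · exact h₁ m (by omega) a h' i hi

end K989.EszVan
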