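import Groth.Agent.HodgeNum.K882.Divisor

/-!
# Weak Lefschetz: the inequality in the middle degree, and positive twists
-/

set_option autoImplicit false
universe u

open CategoryTheory CategoryTheory.Limits AlgebraicGeometry
open K882.Coho K882.IsoMon K882.Divisor

namespace K989.Lef

section Num

variable {X : Scheme.{u}} {k : Type u} [Field k] [X.Over (Spec (CommRingCat.of k))]
variable {S : ShortComplex X.Modules} (hS : S.ShortExact)

include hS in
/-- `h^q(S₂) ≤ h^q(S₃)` if `H^q(S₁) = 0`. -/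
theorem hd_le₂₃ (q : ℕ) (h : Van S.X₁ q) (hfin : FinD k S.X₃ q) : hd k S.X₂ q ≤ hd k S.X₃ q := by
  rw [van_iff (k := k)] at h
  rw [finD_iff] at hfin
  rw [hd_eq, hd_eq]
  refine LinearMap.finrank_le_finrank_of_injective (f := ((HF k q).map S.g).hom) ?_
  rw [injective_iff_map_eq_zero]
  intro x hx
  obtain ⟨y, rfl⟩ := (exact_fg hS q x).mp hx
  rw [Subsingleton.elim y 0, map_zero]

end Num

section Restrict

open Groth.Agent.VarietyB.RestrSeq

variable {X : Scheme.{u}} (k : Type u) [Field k] [X.Over (Spec (CommRingCat.of k))] (D : X.IdealSheafData)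

variable {Z : Scheme.{u}} [Z.Over (Spec (CommRingCat.of k))] (i : Z ⟶ X) [IsClosedImmersion i]

theorem finD_push (hi : i ≫ (X ↘ Spec (CommRingCat.of k)) = Z ↘ Spec (CommRingCat.of k)) (M : Z.Modules) (q : ℕ)
    (h : FinD k M q) : FinD k ((Scheme.Modules.pushforward i).obj M) q := by
  have h' : Module.Finite k (Coh.HH Z M q) := h
  exact Module.Finite.equiv (Groth.Agent.CurvesC.CurveNum.hhPushₗ k i hi M q)

theorem hd_restrict_le {E : X.Modules} (hE : FlatMod.IsFinLocFree E) [D.subscheme.Over (Spec (CommRingCat.of k))]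
    (hD : D.subschemeι ≫ (X ↘ Spec (CommRingCat.of k)) = D.subscheme ↘ Spec (CommRingCat.of k)) (q : ℕ)
    (h1 : Van (CohB1.tensorMod E (ClSub.idealMod D)) q)
    (hfin : FinD k ((Scheme.Modules.pullback D.subschemeι).obj E) q) :
    hd k E q ≤ hd k ((Scheme.Modules.pullback D.subschemeι).obj E) q :=
  (hd_le₂₃ (restrSeq_shortExact (Groth.Agent.VarietyB.TensCoh.HasBases.of_isFinLocFree hE) D) q h1
    (finD_push k D.subschemeι hD _ q hfin)).trans (hd_push k D.subschemeι hD _ q).le

end Restrict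

variable {k : Type u} [Field k] {X : Scheme.{u}} (p : X ⟶ Spec (CommRingCat.of k))
  [Smooth p] [IsSeparated p] (D : X.IdealSheafData)
  [Smooth (D.subschemeι ≫ p)]

/-- The inequality of Hodge numbers in the boundary case. -/
theorem hd_le_main {n : ℕ} (hI : PicF.IsInvertible (ClSub.idealMod D))
    (AX : ℕ → X.Modules) (hAX : ∀ a, ExtPow.IsExtPow a (Omega.sheaf p) (AX a))
    (AY : ℕ → D.subscheme.Modules) (hAY : ∀ a, ExtPow.IsExtPow a (Omega.sheaf (D.subschemeι ≫ p)) (AY a))
    (hvan : ∀ j : ℕ, 1 ≤ j → ∀ a q : ℕ, a + q ≤ n →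
      Van (CohB1.tensorMod (AX a) (CohB1.tensorPow (ClSub.idealMod D) j)) q)
    [X.Over (Spec (CommRingCat.of k))] [D.subscheme.Over (Spec (CommRingCat.of k))]
    (hD : D.subschemeι ≫ (X ↘ Spec (CommRingCat.of k)) = D.subscheme ↘ Spec (CommRingCat.of k))
    (hfin : ∀ (M : D.subscheme.Modules), FlatMod.IsFinLocFree M → ∀ q, FinD k M q)
    (a q : ℕ) (h : a + q ≤ n) : hd k (AX a) q ≤ hd k (AY a) q := by
  have hΩX : FlatMod.IsFinLocFree (Omega.sheaf p) := Groth.Agent.Vancyc.H878.OmegaRank.isFinLocFree_omega _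
  have hΩY : FlatMod.IsFinLocFree (Omega.sheaf (D.subschemeι ≫ p)) :=
    Groth.Agent.Vancyc.H878.OmegaRank.isFinLocFree_omega _
  have hAf : ∀ a, FlatMod.IsFinLocFree (AX a) := fun a =>
    Groth.Agent.Sga67.LocBasis.isFinLocFree_of_isExtPow hΩX (hAX a)
  have hAYf : ∀ a, FlatMod.IsFinLocFree (AY a) := fun a =>
    Groth.Agent.Sga67.LocBasis.isFinLocFree_of_isExtPow hΩY (hAY a)
  have hpf : ∀ a, FlatMod.IsFinLocFree ((Scheme.Modules.pullback D.subschemeι).obj (AX a)) := fun a =>
    Groth.Agent.PerfB.FlatPull.isFinLocFree_pullback _ (hAf a)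
  have key := van_main p D hI AX hAX AY hAY hvan
  have h1 : hd k (AX a) q ≤ hd k ((Scheme.Modules.pullback D.subschemeι).obj (AX a)) q := by
    have e : c (CohB1.tensorMod (AX a) (CohB1.tensorPow (ClSub.idealMod D) 1)) =
        c (CohB1.tensorMod (AX a) (ClSub.idealMod D)) := by
      rw [c_tensor, c_tensor, c_pow, pow_one]
    exact hd_restrict_le k D (hAf a) hD q (van_c e q (hvan 1 le_rfl a q h)) (hfin _ (hpf a) q)
  refine h1.trans ?_
  cases a with
  | zero =>
    have h0 : c (AX 0) = 1 := c_extPow_unique rfl (hAX 0) (Groth.Agent.Sga67.TensorOps.isExtPow_zero _)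
    have h0' : c (AY 0) = 1 := c_extPow_unique rfl (hAY 0) (Groth.Agent.Sga67.TensorOps.isExtPow_zero _)
    refine (hd_c ?_ q).le
    rw [h0', c_pull_iso D.subschemeι (M := AX 0) (N := Coh.structureModule X) h0, c_pull_unit]
  | succ a =>
    obtain ⟨T, hT, t1, t2, t3⟩ := exists_seq p D hI hΩX AX hAX AY hAY a
    have c1 : c (CohB1.tensorMod ((Scheme.Modules.pullback D.subschemeι).obj
        (CohB1.tensorPow (ClSub.idealMod D) 1)) (AY a)) = c T.X₁ := by
      rw [t1, c_tensor]
      congr 1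
      refine c_pull_iso _ ?_
      rw [c_pow, pow_one]
    rw [← hd_c t3 q, ← hd_c t2 q]
    exact hd_le₂₃ hT q (van_c c1 q (key a q 1 le_rfl (by omega))) (hfin _ (flf_c t3.symm (hAYf _)) q)

open Groth.Agent.Sga67.TensorOps in
/-- Vanishing of the cohomology of positive twists on the divisor, from Serre vanishing on the ambient scheme. -/
theorem van_pos {n : ℕ} (M : X.Modules) (hM : PicF.IsInvertible M) (hI : PicF.IsInvertible (ClSub.idealMod D))
    (hMI : c M * c (ClSub.idealMod D) = 1)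
    (AX : ℕ → X.Modules) (hAX : ∀ a, ExtPow.IsExtPow a (Omega.sheaf p) (AX a))
    (AY : ℕ → D.subscheme.Modules) (hAY : ∀ a, ExtPow.IsExtPow a (Omega.sheaf (D.subschemeι ≫ p)) (AY a))
    (hX0 : ∀ a, n < a → IsZero (AX a)) (hY0 : ∀ a, n ≤ a → IsZero (AY a))
    (hvan : ∀ j : ℕ, 1 ≤ j → ∀ a q : ℕ, a ≤ n → 1 ≤ q → Van (CohB1.tensorMod (AX a) (CohB1.tensorPow M j)) q) :
    ∀ q a j : ℕ, 1 ≤ j → n ≤ q + a →
      Van (CohB1.tensorMod ((Scheme.Modules.pullback D.subschemeι).obj (CohB1.tensorPow M j)) (AY a)) q := by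
  have hΩX : FlatMod.IsFinLocFree (Omega.sheaf p) := Groth.Agent.Vancyc.H878.OmegaRank.isFinLocFree_omega _
  have hMj : ∀ j, FlatMod.IsFinLocFree (CohB1.tensorPow M j) := fun j => flf_of_inv (inv_pow hM j)
  have hAf : ∀ a, FlatMod.IsFinLocFree (AX a) := fun a =>
    Groth.Agent.Sga67.LocBasis.isFinLocFree_of_isExtPow hΩX (hAX a)
  have hvan' : ∀ j : ℕ, 1 ≤ j → ∀ a q : ℕ, 1 ≤ q → Van (CohB1.tensorMod (AX a) (CohB1.tensorPow M j)) q := by
    intro j hj a q hq
    rcases Nat.lt_or_ge n a with h | h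
    · exact van_zeroMod (K882.ExtLine.isZero_tensorMod (hX0 a h)) q
    · exact hvan j hj a q h hq
  -- vanishing of the restrictions from `X`
  have hres : ∀ a q j : ℕ, 1 ≤ j → 1 ≤ q →
      Van ((Scheme.Modules.pullback D.subschemeι).obj (CohB1.tensorMod (AX a) (CohB1.tensorPow M (j + 1)))) q := by
    intro a q j hj hq
    refine van_restrict D (flf_tensor (hAf a) (hMj (j + 1))) q (hvan' (j + 1) (by omega) a q hq) ?_
    refine van_c ?_ (q + 1) (hvan' j hj a (q + 1) (by omega))
    rw [c_tensor, c_tensor, c_tensor, c_pow, c_pow, pow_succ, mul_assoc, mul_assoc, hMI, mul_one]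
  intro q
  induction q with
  | zero =>
    intro a j hj ha
    have h0 : c (CohB1.tensorMod ((Scheme.Modules.pullback D.subschemeι).obj (CohB1.tensorPow M j)) (AY a)) =
        c (CohB1.tensorMod (AY a) ((Scheme.Modules.pullback D.subschemeι).obj (CohB1.tensorPow M j))) := by
      rw [c_tensor, c_tensor, mul_comm]
    exact van_c h0.symm 0 (van_zeroMod (K882.ExtLine.isZero_tensorMod (hY0 a (by omega))) 0)
  | succ q ih =>
    intro a j hj ha
    obtain ⟨T, hT, t1, t2, t3⟩ := exists_seq p D hI hΩX AX hAX AY hAY a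
    have hj' : FlatMod.IsFinLocFree ((Scheme.Modules.pullback D.subschemeι).obj (CohB1.tensorPow M (j + 1))) :=
      Groth.Agent.PerfB.FlatPull.isFinLocFree_pullback _ (hMj (j + 1))
    have hT' := tensor_shortExact hj' hT
    have hMI' : c ((Scheme.Modules.pullback D.subschemeι).obj M) *
        c ((Scheme.Modules.pullback D.subschemeι).obj (ClSub.idealMod D)) = 1 := by
      rw [← c_pull_tensor _ (flf_of_inv hM), c_pull_iso D.subschemeι
        (M := CohB1.tensorMod M (ClSub.idealMod D)) (N := Coh.structureModule X) (by rw [c_tensor, hMI]; rfl), c_pull_unit]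
    have c1 : c (tensorShort ((Scheme.Modules.pullback D.subschemeι).obj (CohB1.tensorPow M (j + 1))) T).X₁ =
        c (CohB1.tensorMod ((Scheme.Modules.pullback D.subschemeι).obj (CohB1.tensorPow M j)) (AY a)) := by
      change c (CohB1.tensorMod _ T.X₁) = _
      rw [c_tensor, c_tensor, t1, CohB1.tensorPow, c_pull_tensor _ (hMj j), mul_assoc, ← mul_assoc (c _) (c _) (c (AY a)),
        hMI', one_mul]
    have c2 : c (tensorShort ((Scheme.Modules.pullback D.subschemeι).obj (CohB1.tensorPow M (j + 1))) T).X₂ =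
        c ((Scheme.Modules.pullback D.subschemeι).obj
          (CohB1.tensorMod (AX (a + 1)) (CohB1.tensorPow M (j + 1)))) := by
      change c (CohB1.tensorMod _ T.X₂) = _
      rw [c_tensor, t2, c_pull_tensor _ (hAf (a + 1)), mul_comm]
    have c3 : c (tensorShort ((Scheme.Modules.pullback D.subschemeι).obj (CohB1.tensorPow M (j + 1))) T).X₃ =
        c (CohB1.tensorMod ((Scheme.Modules.pullback D.subschemeι).obj (CohB1.tensorPow M (j + 1))) (AY (a + 1))) := by
      change c (CohB1.tensorMod _ T.X₃) = _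
      rw [c_tensor, c_tensor, t3]
    refine van_c c1 (q + 1) (van₁_succ hT' q (van_c c3.symm q (ih (a + 1) (j + 1) (by omega) (by omega))) ?_)
    exact van_c c2.symm (q + 1) (hres (a + 1) (q + 1) j hj (by omega))

end K989.Lef
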