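import Groth.Agent.AbVar.K513.Theta1
import Groth.Agent.Sga67.Sec

/-!
# The zero scheme of a regular section of an invertible module
-/

set_option autoImplicit false
universe u

open CategoryTheory CategoryTheory.Limits AlgebraicGeometry Opposite TopologicalSpace

namespace K989.ZeroMono

open Groth.Agent.Fdesc.LocGen Groth.Agent.Picfga.ZeroDef Groth.Agent.Pi1C.ZeroScheme

variable {X : Scheme.{u}}

/-- The zero scheme of a monomorphism `O ⟶ L` is an effective Cartier divisor. -/
theorem isEffCartierIdeal_of_mono {L : X.Modules} (hL : PicF.IsInvertible L)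
    (s : Coh.structureModule X ⟶ L) [Mono s] : BlowUp.IsEffCartierIdeal (PicF2.zeroScheme L s) := by
  intro y
  obtain ⟨U, hU, hyU, -, e, he⟩ := exists_affine_isGen hL ⊤ y trivial
  obtain ⟨a, ha⟩ := he.exists_eq (sec s U)
  refine ⟨⟨U, hU⟩, hyU, a, ?_, ideal_eq_span s hL ⟨U, hU⟩ he ha⟩
  rw [mem_nonZeroDivisors_iff_right]
  intro b hb
  have hinj := Groth.Agent.Sga67.Sec.injective_of_mono s U
  let o : Groth.Agent.Sga67.Sec.Sec (Coh.structureModule X) U := (1 : Γ(X, U))
  let b' : Γ(X, U) := b
  have h0 : Groth.Agent.Sga67.Sec.appS s U o = sec s U := rfl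
  have hs : sec s U = a • e := ha
  have h1 : Groth.Agent.Sga67.Sec.appS s U (b' • o) = 0 := by
    refine ((Groth.Agent.Sga67.Sec.appS s U).map_smul b' o).trans ?_
    rw [h0, hs]
    have h3 : b' • a • e = (b' * a) • e := (mul_smul b' a e).symm
    have h4 : b' * a = 0 := hb
    refine h3.trans ?_
    rw [h4]
    exact zero_smul _ e
  have h2 : b' • o = 0 := hinj (h1.trans (map_zero _).symm)
  have h5 : b' * 1 = 0 := h2
  rwa [mul_one] at h5

/-- The ideal module of the zero scheme of a regular section of `L` is a tensor inverse of `L`. -/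
theorem isInverseOf_idealMod {L : X.Modules} (hL : PicF.IsInvertible L)
    (s : Coh.structureModule X ⟶ L) [Mono s] :
    Nonempty (CohB1.tensorMod L (ClSub.idealMod (PicF2.zeroScheme L s)) ≅ Coh.structureModule X) :=
  Groth.Agent.Fga.ZeroClass.nonempty_iso hL (sec s ⊤) (K513.Theta1.isZeroIdeal_zeroScheme hL s)
    (isEffCartierIdeal_of_mono hL s)

end K989.ZeroMono
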